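import Mathlib
import Groth.Prelude.Def_SymTen

set_option autoImplicit false
universe u
open scoped TensorProduct

namespace SymSegreLib

variable {A B : Type u} [CommRing A] [CommRing B] [Algebra A B] (𝒜 : ℕ → Submodule A B) (d : ℕ)

/-- Pure tensors with all entries homogeneous of degree `k`. -/
def pureSet (k : ℕ) : Set (⨂[A] _ : Fin d, B) :=
  {s | ∃ b : Fin d → B, (∀ i, b i ∈ 𝒜 k) ∧ s = PiTensorProduct.tprod A b}

/-- The Segre subalgebra of the tensor power. -/
def segre : Subalgebra A (⨂[A] _ : Fin d, B) :=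
  Algebra.adjoin A {t | ∃ (k : ℕ) (b : Fin d → B), (∀ i, b i ∈ 𝒜 k) ∧ t = PiTensorProduct.tprod A b}

variable {𝒜} {d}

theorem tprod_mem_segre {k : ℕ} {b : Fin d → B} (hb : ∀ i, b i ∈ 𝒜 k) :
    PiTensorProduct.tprod A b ∈ segre 𝒜 d :=
  Algebra.subset_adjoin ⟨k, b, hb, rfl⟩

theorem pure_mem_segre {k : ℕ} {s : ⨂[A] _ : Fin d, B} (hs : s ∈ pureSet 𝒜 d k) : s ∈ segre 𝒜 d := by
  obtain ⟨b, hb, rfl⟩ := hs
  exact tprod_mem_segre hb

theorem span_pure_le_segre (k : ℕ) :
    Submodule.span A (pureSet 𝒜 d k) ≤ Subalgebra.toSubmodule (segre 𝒜 d) :=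
  Submodule.span_le.2 fun _ hs => pure_mem_segre hs

section graded

variable [GradedAlgebra 𝒜]

theorem one_pow_le (l : ℕ) : (𝒜 1) ^ l ≤ 𝒜 l := by
  induction l with
  | zero =>
    rw [pow_zero, Submodule.one_le]
    exact SetLike.one_mem_graded 𝒜
  | succ n ih =>
    rw [pow_succ]
    exact Submodule.mul_le.2 fun a ha b hb => SetLike.mul_mem_graded (ih ha) hb

theorem mem_pow_of_mem (hgen : Algebra.adjoin A (𝒜 1 : Set B) = ⊤) {n : ℕ} {x : B} (hx : x ∈ 𝒜 n) :
    x ∈ (𝒜 1) ^ n := by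
  have key : ∀ y : B, GradedAlgebra.proj 𝒜 n y ∈ (𝒜 1) ^ n := by
    intro y
    have hy : y ∈ Submodule.span A (Submonoid.closure (𝒜 1 : Set B) : Set B) := by
      rw [← Algebra.adjoin_eq_span, hgen]; trivial
    induction hy using Submodule.span_induction with
    | mem m hm =>
      obtain ⟨l, hl⟩ : ∃ l, m ∈ (𝒜 1) ^ l := by
        induction hm using Submonoid.closure_induction with
        | mem a ha => exact ⟨1, by rwa [pow_one]⟩
        | one => exact ⟨0, by rw [pow_zero]; exact Submodule.one_le.1 le_rfl⟩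
        | mul a b _ _ iha ihb =>
          obtain ⟨p, hp⟩ := iha
          obtain ⟨q, hq⟩ := ihb
          exact ⟨p + q, by rw [pow_add]; exact Submodule.mul_mem_mul hp hq⟩
      rw [GradedAlgebra.proj_apply]
      by_cases h : l = n
      · subst h
        rw [DirectSum.decompose_of_mem_same 𝒜 (one_pow_le l hl)]; exact hl
      · rw [DirectSum.decompose_of_mem_ne 𝒜 (one_pow_le l hl) h]; exact zero_mem _
    | zero => rw [map_zero]; exact zero_mem _
    | add a b _ _ ha hb => rw [map_add]; exact add_mem ha hb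
    | smul r a _ ha => rw [map_smul]; exact Submodule.smul_mem _ r ha
  have := key x
  rwa [GradedAlgebra.proj_apply, DirectSum.decompose_of_mem_same 𝒜 hx] at this

theorem mem_span_mul (hgen : Algebra.adjoin A (𝒜 1 : Set B) = ⊤) {k : ℕ} {x : B} (hx : x ∈ 𝒜 (k + 1)) :
    x ∈ Submodule.span A {z : B | ∃ a ∈ 𝒜 1, ∃ b ∈ 𝒜 k, z = a * b} := by
  have h := mem_pow_of_mem hgen hx
  rw [pow_succ'] at h
  refine Submodule.mul_le.2 (fun a ha b hb => Submodule.subset_span ?_) h
  exact ⟨a, ha, b, one_pow_le k hb, rfl⟩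

end graded

/-- A multilinear image of elements of a span lies in the span of the images. -/
theorem tprod_mem_span {S : Set B} {c : Fin d → B} (hc : ∀ i, c i ∈ Submodule.span A S) :
    PiTensorProduct.tprod A c ∈
      Submodule.span A {s | ∃ b : Fin d → B, (∀ i, b i ∈ S) ∧ s = PiTensorProduct.tprod A b} := by
  classical
  choose n f g hfg using fun i => Submodule.mem_span_set'.1 (hc i)
  have hc' : c = fun i => ∑ j : Fin (n i), f i j • (g i j : B) := funext fun i => (hfg i).symm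
  rw [hc', MultilinearMap.map_sum]
  refine Submodule.sum_mem _ fun r _ => ?_
  rw [MultilinearMap.map_smul_univ]
  exact Submodule.smul_mem _ _ (Submodule.subset_span ⟨fun i => g i (r i), fun i => (g i (r i)).2, rfl⟩)

theorem perm_perm (τ σ : Equiv.Perm (Fin d)) (t : ⨂[A] _ : Fin d, B) :
    SymTen.perm A B d τ (SymTen.perm A B d σ t) = SymTen.perm A B d (τ * σ) t := by
  induction t using PiTensorProduct.induction_on with
  | smul_tprod r f => simp [map_smul, Equiv.Perm.mul_def]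
  | add x y hx hy => simp [hx, hy]

theorem perm_mem_segre (σ : Equiv.Perm (Fin d)) {c : ⨂[A] _ : Fin d, B} (hc : c ∈ segre 𝒜 d) :
    SymTen.perm A B d σ c ∈ segre 𝒜 d := by
  induction hc using Algebra.adjoin_induction with
  | mem x hx =>
    obtain ⟨k, b, hb, rfl⟩ := hx
    rw [SymTen.perm_tprod]
    exact tprod_mem_segre fun i => hb _
  | algebraMap r => rw [AlgHom.commutes]; exact Subalgebra.algebraMap_mem _ r
  | add x y _ _ hx hy => rw [map_add]; exact add_mem hx hy
  | mul x y _ _ hx hy => rw [map_mul]; exact mul_mem hx hy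

theorem isIntegral_inclusion {D : Subalgebra A (⨂[A] _ : Fin d, B)}
    (hD : D = segre 𝒜 d ⊓ SymTen.TS A B d) :
    (Subalgebra.inclusion (hD ▸ inf_le_left : D ≤ segre 𝒜 d)).toRingHom.IsIntegral := by
  intro c
  let q : Polynomial (segre 𝒜 d) := ∏ σ : Equiv.Perm (Fin d),
    (Polynomial.X - Polynomial.C ⟨SymTen.perm A B d σ c.1, perm_mem_segre σ c.2⟩)
  have hmap : q.map (segre 𝒜 d).val.toRingHom =
      ∏ σ : Equiv.Perm (Fin d), (Polynomial.X - Polynomial.C (SymTen.perm A B d σ c.1)) := by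
    simp [q, Polynomial.map_prod]
  have hinv : ∀ τ : Equiv.Perm (Fin d),
      (q.map (segre 𝒜 d).val.toRingHom).map (SymTen.perm A B d τ).toRingHom =
        q.map (segre 𝒜 d).val.toRingHom := by
    intro τ
    rw [hmap, Polynomial.map_prod]
    refine (Finset.prod_congr rfl fun σ _ => ?_).trans
      (Equiv.prod_comp (Equiv.mulLeft τ) fun σ => Polynomial.X - Polynomial.C (SymTen.perm A B d σ c.1))
    simp [perm_perm]
  have hlift : q ∈ Polynomial.lifts
      (Subalgebra.inclusion (hD ▸ inf_le_left : D ≤ segre 𝒜 d)).toRingHom := by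
    rw [Polynomial.lifts_iff_coeff_lifts]
    intro n
    have hmem : (q.coeff n).1 ∈ D := by
      rw [hD]
      refine ⟨(q.coeff n).2, fun τ => ?_⟩
      rw [← SymTen.perm_apply]
      have h := congrArg (fun p => Polynomial.coeff p n) (hinv τ)
      simpa [Polynomial.coeff_map] using h
    exact ⟨⟨_, hmem⟩, Subtype.ext rfl⟩
  have hmonic : q.Monic := Polynomial.monic_prod_of_monic _ _ fun σ _ => Polynomial.monic_X_sub_C _
  obtain ⟨p, hp, -, hpm⟩ := Polynomial.lifts_and_natDegree_eq_and_monic hlift hmonic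
  refine ⟨p, hpm, ?_⟩
  rw [Polynomial.eval₂_eq_eval_map, hp, Polynomial.eval_prod]
  refine Finset.prod_eq_zero (Finset.mem_univ 1) ?_
  rw [Polynomial.eval_sub, Polynomial.eval_X, Polynomial.eval_C, sub_eq_zero]
  refine Subtype.ext ?_
  show c.1 = SymTen.perm A B d 1 c.1
  rw [SymTen.perm_apply]
  simp [show (1 : Equiv.Perm (Fin d)) = Equiv.refl _ from rfl]

section ev

variable {L : Type u} [CommRing L] (χ : segre 𝒜 d →+* L)

open Classical in
/-- The value of a character on a pure tensor. -/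
noncomputable def ev (b : Fin d → B) : L :=
  if h : PiTensorProduct.tprod A b ∈ segre 𝒜 d then χ ⟨_, h⟩ else 0

theorem ev_eq {k : ℕ} {b : Fin d → B} (hb : ∀ i, b i ∈ 𝒜 k) :
    ev χ b = χ ⟨_, tprod_mem_segre hb⟩ := dif_pos _

theorem ev_span_zero {k : ℕ} (h : ∀ b : Fin d → B, (∀ i, b i ∈ 𝒜 k) → ev χ b = 0)
    {s : ⨂[A] _ : Fin d, B} (hs : s ∈ Submodule.span A (pureSet 𝒜 d k)) :
    χ ⟨s, span_pure_le_segre k hs⟩ = 0 := by
  induction hs using Submodule.span_induction with
  | mem x hx =>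
    obtain ⟨b, hb, rfl⟩ := hx
    rw [← h b hb, ev_eq χ hb]
  | zero => exact map_zero χ
  | add x y hx hy ihx ihy =>
    rw [show (⟨x + y, span_pure_le_segre k (add_mem hx hy)⟩ : segre 𝒜 d) =
      ⟨x, span_pure_le_segre k hx⟩ + ⟨y, span_pure_le_segre k hy⟩ from rfl, map_add, ihx, ihy, add_zero]
  | smul r x hx ih =>
    rw [show (⟨r • x, span_pure_le_segre k (Submodule.smul_mem _ r hx)⟩ : segre 𝒜 d) =
      algebraMap A (segre 𝒜 d) r * ⟨x, span_pure_le_segre k hx⟩ from
        Subtype.ext (Algebra.smul_def r x), map_mul, ih, mul_zero]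

variable [GradedAlgebra 𝒜]

theorem ev_one : ev χ (fun _ => (1 : B)) = 1 := by
  rw [ev_eq χ (k := 0) fun _ => SetLike.one_mem_graded 𝒜, ← map_one χ]
  congr 1

theorem ev_mul {k l : ℕ} {b c : Fin d → B} (hb : ∀ i, b i ∈ 𝒜 k) (hc : ∀ i, c i ∈ 𝒜 l) :
    ev χ (fun i => b i * c i) = ev χ b * ev χ c := by
  rw [ev_eq χ hb, ev_eq χ hc, ev_eq χ (k := k + l) fun i => SetLike.mul_mem_graded (hb i) (hc i),
    ← map_mul]
  congr 1
  refine Subtype.ext ?_
  show _ = PiTensorProduct.tprod A b * PiTensorProduct.tprod A c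
  rw [PiTensorProduct.tprod_mul_tprod]
  rfl

theorem ev_prod {ι : Type*} (s : Finset ι) {k : ι → ℕ} {b : ι → Fin d → B}
    (hb : ∀ a, ∀ i, b a i ∈ 𝒜 (k a)) :
    ev χ (fun i => ∏ a ∈ s, b a i) = ∏ a ∈ s, ev χ (b a) := by
  classical
  induction s using Finset.induction_on with
  | empty => simpa using ev_one χ
  | insert a t ha ih =>
    simp only [Finset.prod_insert ha]
    rw [ev_mul χ (hb a) (l := ∑ j ∈ t, k j)
      (fun i => SetLike.prod_mem_graded 𝒜 k _ fun j _ => hb j i), ih]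

/-- A nonzero pure tensor of positive degree forces a nonzero one of degree one. -/
theorem exists_deg_one (hgen : Algebra.adjoin A (𝒜 1 : Set B) = ⊤) {k : ℕ} (hk : 0 < k)
    {b : Fin d → B} (hb : ∀ i, b i ∈ 𝒜 k) (h : ev χ b ≠ 0) :
    ∃ e : Fin d → B, (∀ i, e i ∈ 𝒜 1) ∧ ev χ e ≠ 0 := by
  by_contra! hall
  obtain ⟨k, rfl⟩ := Nat.exists_eq_add_one.2 hk
  refine h ?_
  have hs := tprod_mem_span fun i => mem_span_mul hgen (hb i)
  have hle : {s | ∃ c : Fin d → B, (∀ i, c i ∈ {z : B | ∃ a ∈ 𝒜 1, ∃ y ∈ 𝒜 k, z = a * y}) ∧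
      s = PiTensorProduct.tprod A c} ⊆ pureSet 𝒜 d (k + 1) := by
    rintro _ ⟨c, hc, rfl⟩
    refine ⟨c, fun i => ?_, rfl⟩
    obtain ⟨a, ha, y, hy, hz⟩ := hc i
    rw [hz, add_comm]; exact SetLike.mul_mem_graded ha hy
  have key : ∀ s ∈ Submodule.span A
      {s | ∃ c : Fin d → B, (∀ i, c i ∈ {z : B | ∃ a ∈ 𝒜 1, ∃ y ∈ 𝒜 k, z = a * y}) ∧
        s = PiTensorProduct.tprod A c}, ∀ h : s ∈ segre 𝒜 d, χ ⟨s, h⟩ = 0 := by
    intro s hs
    induction hs using Submodule.span_induction with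
    | mem x hx =>
      obtain ⟨c, hc, rfl⟩ := hx
      intro h'
      choose a ha y hy hz using hc
      have h1 : ev χ c = 0 := by
        rw [show c = fun i => a i * y i from funext hz, ev_mul χ ha hy, hall a ha, zero_mul]
      rwa [ev, dif_pos h'] at h1
    | zero => exact fun _ => map_zero χ
    | add x z hx hz ihx ihz =>
      intro h'
      have hx' := span_pure_le_segre (𝒜 := 𝒜) (k + 1) (Submodule.span_mono hle hx)
      have hz' := span_pure_le_segre (𝒜 := 𝒜) (k + 1) (Submodule.span_mono hle hz)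
      exact (map_add χ ⟨x, hx'⟩ ⟨z, hz'⟩).trans (by rw [ihx, ihz, add_zero])
    | smul r x hx ih =>
      intro h'
      have hx' := span_pure_le_segre (𝒜 := 𝒜) (k + 1) (Submodule.span_mono hle hx)
      refine (congrArg χ (Subtype.ext (Algebra.smul_def r x) :
        (⟨r • x, h'⟩ : segre 𝒜 d) = algebraMap A _ r * ⟨x, hx'⟩)).trans ?_
      rw [map_mul, ih hx', mul_zero]
  exact (ev_eq χ hb).trans (key _ hs _)

end ev

/-- Reduction to characters with values in a domain. -/
theorem mem_radical [GradedAlgebra 𝒜] (hgen : Algebra.adjoin A (𝒜 1 : Set B) = ⊤)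
    {D : Subalgebra A (⨂[A] _ : Fin d, B)} (hD : D = segre 𝒜 d ⊓ SymTen.TS A B d)
    {k : ℕ} (hk : 0 < k) {t : ⨂[A] _ : Fin d, B} (htD : t ∈ D)
    (htk : t ∈ Submodule.span A (pureSet 𝒜 d k)) {S : Set D}
    (H : ∀ (L : Type u) [CommRing L] [IsDomain L] (χ : segre 𝒜 d →+* L) (e : Fin d → B),
      (∀ i, e i ∈ 𝒜 1) → ev χ e ≠ 0 →
        ∃ x ∈ S, χ (Subalgebra.inclusion (hD ▸ inf_le_left : D ≤ segre 𝒜 d) x) ≠ 0) :
    ∃ m : ℕ, 0 < m ∧ (⟨t, htD⟩ : D) ^ m ∈ Ideal.span S := by
  let ι := (Subalgebra.inclusion (hD ▸ inf_le_left : D ≤ segre 𝒜 d)).toRingHom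
  letI : Algebra D (segre 𝒜 d) := ι.toAlgebra
  haveI : Algebra.IsIntegral D (segre 𝒜 d) := ⟨isIntegral_inclusion hD⟩
  suffices h : (⟨t, htD⟩ : D) ∈ (Ideal.span S).radical by
    obtain ⟨m, hm⟩ := h
    exact ⟨m + 1, Nat.succ_pos m, by rw [pow_succ]; exact Ideal.mul_mem_right _ _ hm⟩
  rw [Ideal.radical_eq_sInf, Submodule.mem_sInf]
  rintro P ⟨hSP, hP⟩
  by_contra htP
  obtain ⟨Q, -, hQ, hQP⟩ := Ideal.exists_ideal_over_prime_of_isIntegral P (⊥ : Ideal (segre 𝒜 d))
    (fun x hx => by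
      have h0 : x = 0 := Subtype.ext (congrArg Subtype.val (Ideal.mem_bot.1 hx) :)
      rw [h0]; exact zero_mem P)
  haveI := hQ
  let χ := Ideal.Quotient.mk Q
  have ht : χ ⟨t, span_pure_le_segre k htk⟩ ≠ 0 := by
    rw [Ne, Ideal.Quotient.eq_zero_iff_mem]
    intro hmem
    apply htP
    rw [← hQP]
    exact hmem
  obtain ⟨b, hb, hb0⟩ : ∃ b : Fin d → B, (∀ i, b i ∈ 𝒜 k) ∧ ev χ b ≠ 0 := by
    by_contra! hall
    exact ht (ev_span_zero χ hall htk)
  obtain ⟨e, he, he0⟩ := exists_deg_one χ hgen hk hb hb0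
  obtain ⟨x, hx, hx0⟩ := H _ χ e he he0
  apply hx0
  rw [Ideal.Quotient.eq_zero_iff_mem]
  have hxP : x ∈ P := hSP (Ideal.subset_span hx)
  rw [← hQP] at hxP
  exact hxP

section slots

variable {L : Type u} [CommRing L] (χ : segre 𝒜 d →+* L) (e : Fin d → B)

/-- The slot forms attached to a character and a pure tensor of degree one. -/
noncomputable def slot (n : ℕ) (i : Fin d) (x : B) : L :=
  ev χ (Function.update (fun j => e j ^ n) i x)

variable {e} (he : ∀ i, e i ∈ 𝒜 1) [GradedAlgebra 𝒜]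
include he

theorem update_mem {n : ℕ} (i : Fin d) {x : B} (hx : x ∈ 𝒜 n) (j : Fin d) :
    Function.update (fun j => e j ^ n) i x j ∈ 𝒜 n := by
  rcases eq_or_ne j i with rfl | h
  · rwa [Function.update_self]
  · rw [Function.update_of_ne h]
    simpa using SetLike.pow_mem_graded n (he j)

theorem slot_self (i : Fin d) : slot χ e 1 i (e i) = ev χ e := by
  simp [slot, Function.update_eq_self]

theorem slot_add {n : ℕ} (i : Fin d) {x y : B} (hx : x ∈ 𝒜 n) (hy : y ∈ 𝒜 n) :
    slot χ e n i (x + y) = slot χ e n i x + slot χ e n i y := by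
  rw [slot, slot, slot, ev_eq χ (update_mem he i hx), ev_eq χ (update_mem he i hy),
    ev_eq χ (update_mem he i (add_mem hx hy)), ← map_add]
  congr 1
  exact Subtype.ext ((PiTensorProduct.tprod A).map_update_add (fun j => e j ^ n) i x y)

theorem slot_smul {n : ℕ} (i : Fin d) (a : A) {x : B} (hx : x ∈ 𝒜 n) :
    slot χ e n i (a • x) = χ (algebraMap A _ a) * slot χ e n i x := by
  rw [slot, slot, ev_eq χ (update_mem he i hx),
    ev_eq χ (update_mem he i (Submodule.smul_mem _ a hx)), ← map_mul]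
  congr 1
  refine Subtype.ext ?_
  exact ((PiTensorProduct.tprod A).map_update_smul (fun j => e j ^ n) i a x).trans
    (Algebra.smul_def a (PiTensorProduct.tprod A (Function.update (fun j => e j ^ n) i x)))

theorem slot_mul {n m : ℕ} (i : Fin d) {x y : B} (hx : x ∈ 𝒜 n) (hy : y ∈ 𝒜 m) :
    slot χ e (n + m) i (x * y) = slot χ e n i x * slot χ e m i y := by
  rw [slot, slot, slot, ← ev_mul χ (update_mem he i hx) (update_mem he i hy)]
  congr 1
  funext j
  rcases eq_or_ne j i with rfl | h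
  · simp
  · simp [Function.update_of_ne h, pow_add]

omit he in
theorem slot_one (i : Fin d) : slot χ e 0 i (1 : B) = 1 := by
  rw [slot]
  convert ev_one χ
  simp [Function.update_eq_self_iff]

theorem slot_prod {ι : Type*} (s : Finset ι) {n : ι → ℕ} {x : ι → B} (hx : ∀ a, x a ∈ 𝒜 (n a))
    (i : Fin d) : slot χ e (∑ a ∈ s, n a) i (∏ a ∈ s, x a) = ∏ a ∈ s, slot χ e (n a) i (x a) := by
  classical
  induction s using Finset.induction_on with
  | empty => simpa using slot_one χ i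
  | insert a t ha ih =>
    rw [Finset.sum_insert ha, Finset.prod_insert ha, Finset.prod_insert ha, ← ih]
    exact slot_mul χ he i (hx a) (SetLike.prod_mem_graded 𝒜 n _ fun j _ => hx j)

theorem prod_slot {n : ℕ} {x : Fin d → B} (hx : ∀ i, x i ∈ 𝒜 n) :
    ∏ i, slot χ e n i (x i) = ev χ x * ev χ (fun j => e j ^ (n * (d - 1))) := by
  have hpow : ∀ j, e j ^ (n * (d - 1)) ∈ 𝒜 (n * (d - 1)) := fun j => by
    simpa using SetLike.pow_mem_graded (n * (d - 1)) (he j)
  simp only [slot]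
  rw [← ev_prod χ Finset.univ (k := fun _ => n) fun i => update_mem he i (hx i), ← ev_mul χ hx hpow]
  congr 1
  funext j
  rw [← Finset.mul_prod_erase Finset.univ _ (Finset.mem_univ j), Function.update_self]
  congr 1
  rw [Finset.prod_congr rfl (g := fun _ => e j ^ n)
      fun i hi => Function.update_of_ne (Finset.ne_of_mem_erase hi).symm _ _,
    Finset.prod_const, ← pow_mul, Finset.card_erase_of_mem (Finset.mem_univ j), Finset.card_univ,
    Fintype.card_fin]

theorem ev_diag_ne_zero [IsDomain L] {n : ℕ} {f : B} (hf : f ∈ 𝒜 n)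
    (h : ∀ i, slot χ e n i f ≠ 0) : ev χ (fun _ : Fin d => f) ≠ 0 := by
  intro h0
  have h' := prod_slot χ he (x := fun _ => f) (fun _ => hf)
  rw [h0, zero_mul] at h'
  exact Finset.prod_ne_zero_iff.2 (fun i _ => h i) h'

end slots

end SymSegreLib
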